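import Groth.Prelude.Def_Dix
import Groth.Agent.S0101
import Groth.Agent.S3885
import Groth.Agent.Dix.K280.DimOneAC
import Groth.Agent.Dix.K280.GmPullComp
import Groth.Agent.Dix.K280.BrEquiv
import Groth.Agent.FBase.K106.Dim
import Groth.Agent.Lefpen.H365.FieldPts

/-!
# `H²(X, G_m)` of a proper curve over a separably closed field: reduction to one `p`-th root

* `StepInj`: `H²(X, G_m) ⟶ H²(X_{k'}, G_m)` is injective for `k' = k(a^{1/p})`, `X` proper of dimension at most one
  over the separably closed field `k`;
* `injective_of_finite`: the same for every finite extension of `k`;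
* `n2`: `H²(X, G_m) = 0`.
-/

set_option autoImplicit false
universe u
open CategoryTheory CategoryTheory.Limits AlgebraicGeometry Opposite

namespace K983.Limit

open Groth.Agent.Lefpen.H365.FieldPts Groth.Agent.Etcore.FGLim Groth.Agent.Etcore.PullbackLim

/-- Injectivity for one `p`-th root. -/
def StepInj : Prop :=
  ∀ (p : ℕ) [Fact p.Prime] (k : Type u) [Field k] [IsSepClosed k] [CharP k p] (k' : Type u) [Field k']
    [Algebra k k'] (α : k') (a : k), algebraMap k k' a = α ^ p → Algebra.adjoin k {α} = ⊤ →
    (α ∉ Set.range (algebraMap k k')) →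
    ∀ (X : Scheme.{u}) (f : X ⟶ Spec (CommRingCat.of k)) [IsProper f], topologicalKrullDim X ≤ 1 →
    ∀ [PreservesFiniteLimits (EtCoh.pull (pullback.fst f (Spec.map (CommRingCat.ofHom (algebraMap k k')))))],
      Function.Injective (EtLim.HGmPull (pullback.fst f (Spec.map (CommRingCat.ofHom (algebraMap k k')))) 2)

/-- In a nontrivial purely inseparable extension there is a `p`-th root outside the ground field. -/
theorem exists_root (p : ℕ) [Fact p.Prime] (k : Type u) [Field k] [IsSepClosed k] [CharP k p]
    (L : Type u) [Field L] [Algebra k L] [Algebra.IsAlgebraic k L]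
    (h : ¬ Function.Surjective (algebraMap k L)) :
    ∃ (α : L) (a : k), algebraMap k L a = α ^ p ∧ α ∉ Set.range (algebraMap k L) := by
  have i1 : ExpChar k p := ExpChar.prime (Fact.out)
  obtain ⟨x, hx⟩ := not_forall.1 h
  have hx' : x ∉ Set.range (algebraMap k L) := hx
  obtain ⟨n, hn⟩ := IsPurelyInseparable.pow_mem k p x
  induction n generalizing x with
  | zero => simp only [pow_zero, pow_one] at hn; exact absurd hn hx'
  | succ n ih =>
    by_cases h1 : x ^ p ^ n ∈ Set.range (algebraMap k L)
    · exact ih x hx hx' h1
    · obtain ⟨a, ha⟩ := hn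
      exact ⟨x ^ p ^ n, a, by rw [ha, ← pow_mul, ← pow_succ], h1⟩

theorem finrank_lt (k : Type u) [Field k] (L : Type u) [Field L] [Algebra k L] [FiniteDimensional k L]
    (k' : IntermediateField k L) (α : k') (hα : α ∉ Set.range (algebraMap k k')) (d : ℕ)
    (hd : Module.finrank k L ≤ d + 1) : Module.finrank k' L ≤ d := by
  have h1 : Module.finrank k k' * Module.finrank k' L = Module.finrank k L :=
    Module.finrank_mul_finrank k k' L
  have h2 : 0 < Module.finrank k' L := Module.finrank_pos
  have h3 : 0 < Module.finrank k k' := Module.finrank_pos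
  have h4 : Module.finrank k k' ≠ 1 := by
    intro h
    apply hα
    have h5 : (⊤ : Subalgebra k k') = ⊥ := (Subalgebra.bot_eq_top_of_finrank_eq_one h).symm
    have h6 : α ∈ (⊥ : Subalgebra k k') := h5 ▸ Algebra.mem_top
    exact Algebra.mem_bot.1 h6
  have h7 : 2 ≤ Module.finrank k k' := by omega
  have h8 : 2 * Module.finrank k' L ≤ Module.finrank k k' * Module.finrank k' L :=
    Nat.mul_le_mul_right _ h7
  omega

/-- Injectivity for finite extensions. -/
theorem injective_of_finite (H : StepInj.{u}) (p : ℕ) [Fact p.Prime] (d : ℕ) :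
    ∀ (k : Type u) [Field k] [IsSepClosed k] [CharP k p] (L : Type u) [Field L] [Algebra k L]
      [FiniteDimensional k L] (_ : Module.finrank k L ≤ d)
      (X : Scheme.{u}) (f : X ⟶ Spec (CommRingCat.of k)) [IsProper f] (_ : topologicalKrullDim X ≤ 1)
      {X' : Scheme.{u}} (g : X' ⟶ X) (q : X' ⟶ Spec (CommRingCat.of L))
      (_ : IsPullback g q f (Spec.map (CommRingCat.ofHom (algebraMap k L))))
      [PreservesFiniteLimits (EtCoh.pull g)],
      Function.Injective (EtLim.HGmPull g 2) := by
  induction d with
  | zero =>
    intro k _ _ _ L _ _ _ hd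
    exact absurd hd (by have := Module.finrank_pos (R := k) (M := L); omega)
  | succ d ih =>
    intro k _ _ _ L _ _ _ hd X f _ hdim X' g q sq _
    by_cases hs : Function.Surjective (algebraMap k L)
    · have h1 : Function.Bijective (algebraMap k L) := ⟨(algebraMap k L).injective, hs⟩
      have h2 : IsIso (CommRingCat.ofHom (algebraMap k L)) :=
        (ConcreteCategory.isIso_iff_bijective _).2 h1
      have h3 : IsIso g := sq.isIso_fst_of_isIso
      have h4 : ∀ ⦃Y Z : Scheme.{u}⦄ (g : Y ⟶ Z), PreservesFiniteLimits (EtCoh.pull g) :=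
        fun Y Z g => Groth.Agent.S0101.result g
      exact (K280.BrEquiv.HGmPull_bijective_of_isIso g 2).1
    · obtain ⟨α, a, ha, hα⟩ := exists_root p k L hs
      let k' : IntermediateField k L := IntermediateField.adjoin k {α}
      let α' : k' := IntermediateField.AdjoinSimple.gen k α
      have hint : IsIntegral k α := Algebra.IsIntegral.isIntegral α
      have i1 : IsSepClosed k' := Algebra.IsAlgebraic.isSepClosed (F := k)
      have i2 : CharP k' p := charP_of_injective_algebraMap (algebraMap k k').injective p
      have hα' : α' ∉ Set.range (algebraMap k k') := by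
        rintro ⟨b, hb⟩
        exact hα ⟨b, congrArg Subtype.val hb⟩
      have hfin := finrank_lt k L k' α' hα' d hd
      have h1 : algebraMap k k' a = α' ^ p := Subtype.ext ha
      have h2 : Algebra.adjoin k {α'} = ⊤ := by
        have := (IntermediateField.adjoin.powerBasis hint).adjoin_gen_eq_top
        rwa [IntermediateField.adjoin.powerBasis_gen] at this
      let e : Spec (CommRingCat.of k') ⟶ Spec (CommRingCat.of k) :=
        Spec.map (CommRingCat.ofHom (algebraMap k k'))
      let e' : Spec (CommRingCat.of L) ⟶ Spec (CommRingCat.of k') :=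
        Spec.map (CommRingCat.ofHom (algebraMap k' L))
      have he : e' ≫ e = Spec.map (CommRingCat.ofHom (algebraMap k L)) := by
        rw [← Spec.map_comp, ← CommRingCat.ofHom_comp]
        rfl
      let m : X' ⟶ pullback f e := pullback.lift g (q ≫ e') (by rw [Category.assoc, he, sq.w])
      have hm : m ≫ pullback.fst f e = g := pullback.lift_fst _ _ _
      have sq' : IsPullback m q (pullback.snd f e) e' := by
        refine IsPullback.of_right (h₁₂ := pullback.fst f e) (v₁₃ := f) (h₂₂ := e) ?_
          (pullback.lift_snd _ _ _) (IsPullback.of_hasPullback f e)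
        rw [hm, he]
        exact sq
      have j1 : PreservesFiniteLimits (EtCoh.pull (pullback.fst f e)) := Groth.Agent.S0101.result _
      have j2 : PreservesFiniteLimits (EtCoh.pull m) := Groth.Agent.S0101.result _
      have hdim' : topologicalKrullDim ↥(pullback f e) ≤ 1 :=
        (K106.Dim.topologicalKrullDim_bc_eq f k').le.trans hdim
      have s1 : Function.Injective (EtLim.HGmPull (pullback.fst f e) 2) :=
        H p k k' α' a h1 h2 hα' X f hdim
      have s2 : Function.Injective (EtLim.HGmPull m 2) :=
        ih k' L hfin (pullback f e) (pullback.snd f e) hdim' m q sq'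
      intro x y hxy
      apply s1
      apply s2
      exact (K280.GmPullComp.HGmPull_comp m _ g hm 2 x).trans
        (hxy.trans (K280.GmPullComp.HGmPull_comp m _ g hm 2 y).symm)

/-- Vanishing in characteristic `p`. -/
theorem char_p (H : StepInj.{u}) (p : ℕ) [Fact p.Prime] (k : Type u) [Field k] [IsSepClosed k] [CharP k p]
    (X : Scheme.{u}) (f : X ⟶ Spec (CommRingCat.of k)) [IsProper f] (hdim : topologicalKrullDim X ≤ 1) :
    Subsingleton (Dix.BrCoh X) := by
  let K := AlgebraicClosure k
  have hP : ∀ ⦃Y Z : Scheme.{u}⦄ (g : Y ⟶ Z), PreservesFiniteLimits (EtCoh.pull g) :=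
    fun Y Z g => Groth.Agent.S0101.result g
  have h0 : Subsingleton (EtCoh.H (pullback f (xi k K)) (EtCoh.Gm (pullback f (xi k K))) 2) :=
    K280.DimOneAC.subsingleton_H2 K _ (pullback.snd f (xi k K))
      ((K106.Dim.topologicalKrullDim_bc_eq f K).le.trans hdim)
  let T := specSys (sysF k K)
  let Xs := sys T (str k K) (str_map k K) f
  let c := cone T (str k K) (str_map k K) f (specCone (sysF k K) (coconeF k K)) (xi k K) (str_cone k K)
  have hc : IsLimit c := isLimitCone T (str k K) (str_map k K) f _ (xi k K) (str_cone k K) (limF k K)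
  have haff : ∀ ⦃a b : (FinSub k K)ᵒᵖ⦄ (h : a ⟶ b), IsAffineHom (Xs.map h) := by
    intro a b h
    have : IsAffineHom (T.map h) := by
      change IsAffineHom (Spec.map _)
      infer_instance
    exact MorphismProperty.of_isPullback (P := @IsAffineHom) (isPullback_mapp T (str k K) (str_map k K) f h).flip this
  have q1 : QuasiCompact f := inferInstance
  have q2 : QuasiSeparated f := inferInstance
  have hqc : ∀ a, CompactSpace ↥(Xs.obj a) := fun a => by
    have q3 : QuasiCompact (pullback.snd f (str k K a)) :=
      MorphismProperty.pullback_snd (P := @QuasiCompact) _ _ q1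
    have q4 : CompactSpace (T.obj a) := inferInstanceAs (CompactSpace (Spec _))
    exact @QuasiCompact.compactSpace_of_compactSpace _ _ (pullback.snd f (str k K a)) q3 q4
  have hqs : ∀ a, QuasiSeparatedSpace ↥(Xs.obj a) := fun a => by
    have q3 : QuasiSeparated (pullback.snd f (str k K a)) :=
      MorphismProperty.pullback_snd (P := @QuasiSeparated) _ _ q2
    have q4 : QuasiSeparatedSpace (T.obj a) := inferInstanceAs (QuasiSeparatedSpace (Spec _))
    exact @quasiSeparatedSpace_of_quasiSeparated _ _ (pullback.snd f (str k K a)) q4 q3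
  have hlim := (Groth.Agent.S3885.result Xs haff hqc hqs c hc 2).2
  rw [subsingleton_iff_forall_eq 0]
  intro ξ
  let L₀ : FinSub k K := Classical.arbitrary _
  let g₀ : Xs.obj (op L₀) ⟶ X := pullback.fst f (str k K (op L₀))
  obtain ⟨L, hL, h1⟩ := hlim L₀ (EtLim.HGmPull g₀ 2 ξ) (Subsingleton.elim (h := h0) _ _)
  let g : Xs.obj (op L) ⟶ X := pullback.fst f (str k K (op L))
  have hw : Xs.map (homOfLE hL).op ≫ g₀ = g := mapp_fst T (str k K) (str_map k K) f _
  have h2 : EtLim.HGmPull g 2 ξ = 0 :=
    (K280.GmPullComp.HGmPull_comp _ g₀ g hw 2 ξ).symm.trans h1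
  have h3 := injective_of_finite H p (Module.finrank k L.1) k L.1 le_rfl X f hdim g
    (pullback.snd f (str k K (op L))) (IsPullback.of_hasPullback f (str k K (op L)))
  exact h3 (h2.trans (map_zero _).symm)

/-- **`H²(X, G_m) = 0`** for `X` proper of dimension at most one over a separably closed field, granting the
injectivity for one `p`-th root. -/
theorem n2 (H : StepInj.{u}) (k : Type u) [Field k] [IsSepClosed k] (X : Scheme.{u})
    (f : X ⟶ Spec (CommRingCat.of k)) [IsProper f] (hdim : topologicalKrullDim X ≤ 1) :
    Subsingleton (Dix.BrCoh X) := by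
  obtain ⟨p, hp⟩ := CharP.exists k
  rcases CharP.char_is_prime_or_zero k p with h | h
  · have : Fact p.Prime := ⟨h⟩
    exact char_p H p k X f hdim
  · subst h
    have i1 : CharZero k := CharP.charP_to_charZero k
    have i2 : IsAlgClosed k := inferInstance
    exact K280.DimOneAC.subsingleton_H2 k X f hdim

end K983.Limit
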